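import Groth.Agent.H7Flat.Flatten.Nagata
import Groth.Agent.H7Flat.SeparateClosed
import Groth.Agent.H26Blow.Proper
import Groth.Agent.H29Blow.Basic
import Mathlib

/-!
# Compactifications with dense image and with separated closures
-/

set_option autoImplicit false
set_option linter.style.haveILetI false
set_option backward.isDefEq.respectTransparency.types false
universe u v

open CategoryTheory CategoryTheory.Limits AlgebraicGeometry TopologicalSpace

namespace Groth.Agent.H27Corr

/-- A compactification with dense image. -/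
theorem exists_dense {X S : Scheme.{u}} (f : X ⟶ S) [CompactSpace S] [QuasiSeparatedSpace S] [IsSeparated f]
    [QuasiCompact f] [LocallyOfFiniteType f] :
    ∃ (Z : Scheme.{u}) (j : X ⟶ Z) (p : Z ⟶ S), IsOpenImmersion j ∧ IsProper p ∧ DenseRange j.base ∧ j ≫ p = f := by
  obtain ⟨Y, j₀, g, hj₀, hjq, hg, hjg⟩ := H7Flat.Flatten.exists_compactification f
  haveI := hj₀; haveI := hjq; haveI := hg
  haveI : QuasiCompact j₀ := hjq
  exact ⟨j₀.image, j₀.toImage, j₀.imageι ≫ g, inferInstance, inferInstance,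
    (inferInstance : IsDominant j₀.toImage).1, by rw [← Category.assoc, j₀.toImage_imageι, hjg]⟩

/-- In a Noetherian space closed sets are constructible. -/
theorem isConstructible_of_isClosed {T : Type*} [TopologicalSpace T] [NoetherianSpace T] {s : Set T}
    (hs : IsClosed s) : Topology.IsConstructible s := by
  haveI : QuasiSeparatedSpace T := ⟨fun U V _ _ _ _ => NoetherianSpace.isCompact _⟩
  exact ((NoetherianSpace.isCompact sᶜ).isConstructible hs.isOpen_compl).of_compl

/-- A compactification in which given disjoint closed pairs have disjoint closures. -/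
theorem exists_disjoint {k : Type u} [Field k] {X : Scheme.{u}} (pX : X ⟶ Spec (CommRingCat.of k)) [IsSeparated pX]
    [QuasiCompact pX] [LocallyOfFiniteType pX]
    {ι : Type v} [Finite ι] (C₁ C₂ : ι → Set X) (h₁ : ∀ i, IsClosed (C₁ i)) (h₂ : ∀ i, IsClosed (C₂ i))
    (hd : ∀ i, C₁ i ∩ C₂ i = ∅) :
    ∃ (Xb : Scheme.{u}) (j : X ⟶ Xb) (p : Xb ⟶ Spec (CommRingCat.of k)),
      IsProper p ∧ IsOpenImmersion j ∧ DenseRange j.base ∧ j ≫ p = pX ∧
      ∀ i, closure (j.base '' C₁ i) ∩ closure (j.base '' C₂ i) = ∅ := by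
  classical
  letI := Fintype.ofFinite ι
  suffices h : ∀ s : Finset ι, ∃ (Xb : Scheme.{u}) (j : X ⟶ Xb) (p : Xb ⟶ Spec (CommRingCat.of k)),
      IsProper p ∧ IsOpenImmersion j ∧ DenseRange j.base ∧ j ≫ p = pX ∧
      ∀ i ∈ s, closure (j.base '' C₁ i) ∩ closure (j.base '' C₂ i) = ∅ by
    obtain ⟨Xb, j, p, a, b, c, d, e⟩ := h Finset.univ
    exact ⟨Xb, j, p, a, b, c, d, fun i => e i (Finset.mem_univ i)⟩
  intro s
  induction s using Finset.induction with
  | empty =>
    obtain ⟨Xb, j, p, a, b, c, d⟩ := exists_dense pX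
    exact ⟨Xb, j, p, b, a, c, d, by simp⟩
  | insert i s his ih =>
    obtain ⟨Y, j, p, hp, hj, -, hjp, hs⟩ := ih
    haveI := hp; haveI := hj
    haveI : IsLocallyNoetherian Y := LocallyOfFiniteType.isLocallyNoetherian p
    haveI : CompactSpace Y := QuasiCompact.compactSpace_of_compactSpace p
    haveI : IsNoetherian Y := ⟨⟩
    haveI : QuasiSeparatedSpace Y := quasiSeparatedSpace_of_quasiSeparated p
    let U : Y.Opens := j.opensRange
    let e := j.isoOpensRange
    let T : Set X → Set U := fun C => Subtype.val ⁻¹' (j.base '' C)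
    have hT : ∀ C, Subtype.val '' T C = j.base '' C := fun C => Set.ext fun y =>
      ⟨fun ⟨u, hu, h⟩ => h ▸ hu, fun ⟨x, hx, h⟩ => ⟨⟨y, ⟨x, h⟩⟩, ⟨x, hx, h⟩, rfl⟩⟩
    have hTc : ∀ C, IsClosed C → IsClosed (T C) := fun C hC => by
      obtain ⟨D, hD, rfl⟩ := j.isOpenEmbedding.isInducing.isClosed_iff.1 hC
      have : T (j.base ⁻¹' D) = (Subtype.val : U → Y) ⁻¹' D := Set.ext fun u => by
        constructor
        · rintro ⟨x, hx, hxu⟩
          show Subtype.val u ∈ D
          rw [← hxu]; exact hx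
        · intro hu
          obtain ⟨x, hx⟩ := u.2
          exact ⟨x, (show j.base x ∈ D by rw [hx]; exact hu), hx⟩
      rw [this]
      exact hD.preimage continuous_subtype_val
    haveI : NoetherianSpace U := NoetherianSpace.set (U : Set Y)
    have hTd : Disjoint (T (C₁ i)) (T (C₂ i)) := by
      rw [Set.disjoint_left]
      rintro u ⟨a, ha, hau⟩ ⟨b, hb, hbu⟩
      obtain rfl : a = b := j.isOpenEmbedding.injective (hau.trans hbu.symm)
      exact (hd i).le ⟨ha, hb⟩
    obtain ⟨J, Y', b, hb, ⟨hJ, hJU⟩, hsep⟩ := H7Flat.exists_blowUp_separating U (NoetherianSpace.isCompact _) _ _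
      (hTc _ (h₁ i)) (hTc _ (h₂ i)) (isConstructible_of_isClosed (hTc _ (h₁ i)))
      (isConstructible_of_isClosed (hTc _ (h₂ i))) hTd
    haveI : IsProper b := H26Blow.isProper_of_isBlowUp hb fun x => by
      obtain ⟨W, hW, hxW, -⟩ := exists_isAffineOpen_mem_and_subset (show x ∈ (⊤ : Y.Opens) from trivial)
      exact ⟨⟨W, hW⟩, hxW, hJ _⟩
    haveI : IsIso (b ∣_ U) := H29Blow.isIso_morphismRestrict hb U fun x hx hx' => Set.disjoint_left.1 hJU hx' hx
    let j₁ : X ⟶ Y' := (e.hom ≫ inv (b ∣_ U)) ≫ (b ⁻¹ᵁ U).ι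
    have hj₁ : j₁ ≫ b = j := by
      rw [Category.assoc, Category.assoc, ← morphismRestrict_ι, IsIso.inv_hom_id_assoc]
      exact Scheme.Hom.isoOpensRange_hom_ι j
    haveI : IsOpenImmersion j₁ := inferInstanceAs (IsOpenImmersion ((e.hom ≫ inv (b ∣_ U)) ≫ (b ⁻¹ᵁ U).ι))
    haveI : CompactSpace X := QuasiCompact.compactSpace_of_compactSpace pX
    haveI : QuasiSeparatedSpace Y' := quasiSeparatedSpace_of_quasiSeparated b
    haveI : QuasiCompact j₁ := QuasiCompact.of_comp j₁ (terminal.from _)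
    have himg : ∀ C : Set X, j₁.base '' C ⊆ b.base ⁻¹' (j.base '' C) := fun C => by
      rintro _ ⟨x, hx, rfl⟩
      exact ⟨x, hx, by rw [← hj₁]; rfl⟩
    refine ⟨j₁.image, j₁.toImage, j₁.imageι ≫ b ≫ p, inferInstance, inferInstance,
      (inferInstance : IsDominant j₁.toImage).1, by rw [← Category.assoc, j₁.toImage_imageι, ← Category.assoc, hj₁, hjp], ?_⟩
    have hcl : ∀ C : Set X, j₁.imageι.base '' closure (j₁.toImage.base '' C) ⊆ closure (j₁.base '' C) := fun C => by
      refine (image_closure_subset_closure_image j₁.imageι.continuous).trans (le_of_eq ?_)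
      rw [Set.image_image]
      exact congrArg closure (Set.image_congr fun x _ => by rw [← Scheme.Hom.comp_apply, j₁.toImage_imageι])
    intro l hl
    refine Set.eq_empty_of_forall_notMem fun z ⟨hz₁, hz₂⟩ => ?_
    have a₁ := hcl _ ⟨z, hz₁, rfl⟩
    have a₂ := hcl _ ⟨z, hz₂, rfl⟩
    rcases Finset.mem_insert.1 hl with rfl | hl
    · refine Set.disjoint_left.1 hsep (?_ : j₁.imageι.base z ∈ _) ?_
      · rw [hT]; exact closure_mono (himg _) a₁
      · rw [hT]; exact closure_mono (himg _) a₂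
    · have hb' : ∀ C : Set X, j₁.imageι.base z ∈ closure (j₁.base '' C) →
          b.base (j₁.imageι.base z) ∈ closure (j.base '' C) := fun C h => by
        refine closure_mono ?_ (image_closure_subset_closure_image b.continuous ⟨_, h, rfl⟩)
        rintro _ ⟨_, hy, rfl⟩
        exact himg C hy
      exact (hs l hl).le ⟨hb' _ a₁, hb' _ a₂⟩

end Groth.Agent.H27Corr
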